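import Cfsg.Agent.H593.GlaubermanP2
import Cfsg.Agent.Blocks.Deflate
import Cfsg.Agent.Blocks.ExistsModular
import Cfsg.Agent.Classification.BGIsometry

/-!
# Uniqueness of the Glauberman correspondent modulo a normal subgroup

A `p`-group `S` acts on the finite group `H`, `N` is an `S`-invariant normal subgroup of index prime
to `p`, `ι : E →* H` is an embedding with range `{h | ∀ s, (s • h) * h⁻¹ ∈ N}`.  The Glauberman
correspondence for `H ⧸ N` in terms of characters of `H` and `E` constant on the cosets of `N`.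
-/

set_option autoImplicit false

namespace Cfsg.Agent.H706.GlaubQuot

open Cfsg Cfsg.Agent.Characters.Core Cfsg.Agent.H593.GlaubermanP
open scoped ComplexConjugate

variable {S H : Type*} [Group S] [Group H] [MulDistribMulAction S H]

/-- The action on the quotient by an invariant normal subgroup. -/
@[instance_reducible]
def quotAct (N : Subgroup H) [N.Normal] (hN : ∀ (s : S), ∀ n ∈ N, s • n ∈ N) :
    MulDistribMulAction S (H ⧸ N) where
  smul s x := QuotientGroup.map N N (MulDistribMulAction.toMonoidHom H s) (fun n hn => hN s n hn) x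
  one_smul x := by
    induction x using QuotientGroup.induction_on with
    | H x =>
      show (((1 : S) • x : H) : H ⧸ N) = _
      rw [one_smul]
  mul_smul s t x := by
    induction x using QuotientGroup.induction_on with
    | H x =>
      show (((s * t) • x : H) : H ⧸ N) = ((s • (t • x) : H) : H ⧸ N)
      rw [mul_smul]
  smul_mul s x y := by
    induction x using QuotientGroup.induction_on with
    | H x =>
      induction y using QuotientGroup.induction_on with
      | H y =>
        show ((s • (x * y) : H) : H ⧸ N) = ((s • x : H) : H ⧸ N) * ((s • y : H) : H ⧸ N)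
        rw [smul_mul', QuotientGroup.mk_mul]
  smul_one s := by
    show ((s • (1 : H) : H) : H ⧸ N) = 1
    rw [smul_one, QuotientGroup.mk_one]

theorem exists_deflate [Finite H] (N : Subgroup H) [N.Normal] {η : H → ℂ}
    (hη : IsIrrCharacter H η) (hinv : ∀ n ∈ N, ∀ g, η (n * g) = η g) :
    ∃ η' : IrrCharacter (H ⧸ N), η = (η' : H ⧸ N → ℂ) ∘ QuotientGroup.mk := by
  have := Fintype.ofFinite N
  refine Cfsg.Agent.Blocks.Deflate.exists_deflation N η hη ?_
  have h1 : ∀ n : N, η n = η 1 := by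
    intro n
    have := hinv n n.2 1
    rwa [mul_one] at this
  rw [Finset.sum_congr rfl fun n _ => h1 n, Finset.sum_const, Finset.card_univ, nsmul_eq_mul]
  exact mul_ne_zero (Nat.cast_ne_zero.2 Fintype.card_ne_zero) (isIrr_apply_one_ne_zero hη)

/-- The map on the quotients. -/
def iq {E : Type*} [Group E] (N : Subgroup H) [N.Normal] (ι : E →* H) :
    E ⧸ (N.comap ι) →* H ⧸ N := QuotientGroup.map (N.comap ι) N ι le_rfl

omit [MulDistribMulAction S H] in
theorem iq_mk {E : Type*} [Group E] (N : Subgroup H) [N.Normal] (ι : E →* H) (e : E) :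
    iq N ι (e : E ⧸ (N.comap ι)) = ((ι e : H) : H ⧸ N) := rfl

/-- The coprime action on the quotient. -/
theorem setup {E : Type*} [Group E] (p : ℕ)
    (hS : IsPGroup p S) (N : Subgroup H) [N.Normal] (hN : ∀ (s : S), ∀ n ∈ N, s • n ∈ N)
    (hidx : ¬ p ∣ N.index) (ι : E →* H)
    (hι : ∀ h : H, (∀ s : S, (s • h) * h⁻¹ ∈ N) ↔ ∃ e, ι e = h) :
    letI := quotAct (S := S) N hN
    Setup S (iq N ι) p := by
  let _ := quotAct (S := S) N hN
  have hsmul : ∀ (s : S) (h : H), s • (h : H ⧸ N) = ((s • h : H) : H ⧸ N) := fun _ _ => rfl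
  have hfix : ∀ (s : S) (h : H), s • (h : H ⧸ N) = h ↔ (s • h) * h⁻¹ ∈ N := by
    intro s h
    rw [hsmul, eq_comm, QuotientGroup.eq, ← (inferInstance : N.Normal).mem_comm_iff]
  refine ⟨?_, ?_, hS, ?_⟩
  · rw [injective_iff_map_eq_one]
    intro x
    induction x using QuotientGroup.induction_on with
    | H x =>
      intro hx
      rw [iq_mk, QuotientGroup.eq_one_iff] at hx
      rw [QuotientGroup.eq_one_iff]
      exact hx
  · intro x
    induction x using QuotientGroup.induction_on with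
    | H x =>
      simp only [hfix]
      rw [hι]
      constructor
      · rintro ⟨e, rfl⟩
        exact ⟨e, rfl⟩
      · rintro ⟨c, hc⟩
        induction c using QuotientGroup.induction_on with
        | H c =>
          rw [← hι]
          intro s
          rw [← hfix, ← hc, iq_mk, hfix]
          exact (hι (ι c)).2 ⟨c, rfl⟩ s
  · exact hidx

/-- Uniqueness of the correspondent. -/
theorem unique {E : Type*} [Group E] [Fintype H] [Fintype E] (p : ℕ) [Fact p.Prime]
    (hS : IsPGroup p S) (N : Subgroup H) [N.Normal] (hN : ∀ (s : S), ∀ n ∈ N, s • n ∈ N)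
    (hidx : ¬ p ∣ N.index) (ι : E →* H)
    (hι : ∀ h : H, (∀ s : S, (s • h) * h⁻¹ ∈ N) ↔ ∃ e, ι e = h)
    {η : H → ℂ} (hη : IsIrrCharacter H η) (hηN : ∀ n ∈ N, ∀ g, η (n * g) = η g)
    (hηS : ∀ (s : S) (g : H), η (s • g) = η g)
    {η₁ η₂ : E → ℂ} (h₁ : IsIrrCharacter E η₁) (h₂ : IsIrrCharacter E η₂)
    (hN₁ : ∀ n : E, ι n ∈ N → ∀ g, η₁ (n * g) = η₁ g)
    (hN₂ : ∀ n : E, ι n ∈ N → ∀ g, η₂ (n * g) = η₂ g)
    {m₁ m₂ : ℕ} (hm₁ : classInner (η ∘ ι) η₁ = m₁) (hm₂ : classInner (η ∘ ι) η₂ = m₂)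
    (hp₁ : ¬ p ∣ m₁) (hp₂ : ¬ p ∣ m₂) : η₁ = η₂ := by
  classical
  let _ := quotAct (S := S) N hN
  have hset : Setup S (iq N ι) p := setup p hS N hN hidx ι hι
  have : Fintype (H ⧸ N) := Fintype.ofFinite _
  have : Fintype (E ⧸ (N.comap ι)) := Fintype.ofFinite _
  obtain ⟨M, hM⟩ := Cfsg.Agent.Blocks.ExistsModular.exists_isPModular (Fact.out : p.Prime)
  obtain ⟨χ, rfl⟩ := exists_deflate N hη hηN
  obtain ⟨β₁, rfl⟩ := exists_deflate (N.comap ι) h₁ (fun n hn g => hN₁ n hn g)
  obtain ⟨β₂, rfl⟩ := exists_deflate (N.comap ι) h₂ (fun n hn g => hN₂ n hn g)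
  have hχS : Inv S (χ : H ⧸ N → ℂ) := by
    intro s x
    induction x using QuotientGroup.induction_on with
    | H x => exact hηS s x
  have hmult : ∀ β : IrrCharacter (E ⧸ (N.comap ι)),
      classInner (((χ : H ⧸ N → ℂ) ∘ QuotientGroup.mk) ∘ ι)
        ((β : E ⧸ (N.comap ι) → ℂ) ∘ QuotientGroup.mk) =
      classInner ((χ : H ⧸ N → ℂ) ∘ iq N ι) (β : E ⧸ (N.comap ι) → ℂ) := fun β =>
    Cfsg.Agent.Classification.BGIsometry.classInner_comp (QuotientGroup.mk' (N.comap ι))
      (QuotientGroup.mk'_surjective _) ((χ : H ⧸ N → ℂ) ∘ iq N ι) (β : E ⧸ (N.comap ι) → ℂ)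
  rw [hmult] at hm₁ hm₂
  have h3 := unique_beta hset hM (χ := χ) (β := β₁) (β' := β₂) hχS
    (fun h => hp₁ ((good_iff hset hM hm₁).1 h)) (fun h => hp₂ ((good_iff hset hM hm₂).1 h))
  rw [h3]

end Cfsg.Agent.H706.GlaubQuot
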