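import Cfsg.Agent.H706.Uniq
import Cfsg.Agent.Blocks.OrbitSum
import Cfsg.Agent.S0887

/-!
# Orthogonality modulo `p`

For `S`-invariant characters `χ`, `χ'` of `K` the multiplicities satisfy
`[χ, χ'] ≡ [χ ∘ ι, χ' ∘ ι] (mod p)`.
-/

set_option autoImplicit false

namespace Cfsg.Agent.H706.Ortho

open Cfsg Cfsg.Agent.Characters.Core Cfsg.Agent.Characters.Clifford
open Cfsg.Agent.H706.Fixed Cfsg.Agent.H706.GlaubQuot Cfsg.Agent.H706.Uniq
open Cfsg.Agent.H706.MultFormula
open Cfsg.Agent.CharactersDeep.CosetAverage Cfsg.Agent.Blocks.Local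
open Cfsg.Agent.H593.GlaubermanP
open scoped ComplexConjugate

/-- Weighted fixed point lemma in `ZMod p`. -/
theorem sum_fixed_zmod {p : ℕ} [Fact p.Prime] {P Ω : Type*} [Group P] [MulAction P Ω]
    [Fintype Ω] (hP : IsPGroup p P) (f : Ω → ZMod p) (hf : ∀ (u : P) (ω : Ω), f (u • ω) = f ω)
    [DecidablePred (· ∈ MulAction.fixedPoints P Ω)] :
    ∑ ω, f ω = ∑ ω ∈ Finset.univ.filter (· ∈ MulAction.fixedPoints P Ω), f ω := by
  obtain ⟨a, ha⟩ := Cfsg.Agent.Blocks.OrbitSum.sum_eq_sum_fixed_add_smul (p := p) hP f hf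
  rw [ha, nsmul_eq_mul, ZMod.natCast_self, zero_mul, add_zero]

variable {S K D : Type*} [Group S] [Group K] [Group D] [MulDistribMulAction S K]
  [MulDistribMulAction S D] {Q : Subgroup K} {ι : D →* K} {p : ℕ}

/-- `f` is a character of `K` invariant under `S`: the class sums over `K` and `D` agree modulo the
local ideal. -/
theorem sum_congr_mod [Fintype K] [Fintype D] [Fact p.Prime] [Q.Normal] {M : Ideal AlgInt}
    (hM : IsPModular p M) (h : Config S Q ι p)
    {f : K → ℂ} (hf : IsCharacter K f) (hfS : ∀ (s : S) (g : K), f (s • g) = f g) {n n' : ℕ}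
    (hn : (Nat.card K : ℂ)⁻¹ * ∑ k : K, f k = n)
    (hn' : (Nat.card D : ℂ)⁻¹ * ∑ d : D, f (ι d) = n') :
    MemLocalIdeal M ((Nat.card (K ⧸ Q) : ℂ) * n - (Nat.card (D ⧸ (Q.comap ι)) : ℂ) * n') := by
  classical
  have hMp := isPrime_of_isPModular hM
  have := Fintype.ofFinite Q
  have := Fintype.ofFinite (Q.comap ι)
  have := Fintype.ofFinite (K ⧸ Q)
  have := Fintype.ofFinite (D ⧸ (Q.comap ι))
  let _ := quotAct (S := S) Q h.stab
  have hset : Setup S (iq Q ι) p := setup p h.pS Q h.stab h.idx ι h.mem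
  set F : K → ℂ := fun g => (Nat.card Q : ℂ)⁻¹ * ∑ n : Q, f ((n : K) * g) with hF
  have hFc : IsCharacter K F := isCharacter_cosetAverage Q hf
  have hFinv : ∀ (n : Q) (g : K), F ((n : K) * g) = F g := fun n g => cosetAverage_invariant Q f n g
  have hFr : ∀ (g : K) (n : Q), F (g * n) = F g := by
    intro g n
    have h1 : g * (n : K) = g * n * g⁻¹ * g := by group
    rw [h1]
    exact hFinv ⟨g * n * g⁻¹, (inferInstance : Q.Normal).conj_mem n n.2 g⟩ g
  have hFS : ∀ (s : S) (g : K), F (s • g) = F g := by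
    intro s g
    simp only [hF]
    congr 1
    let e : Q ≃ Q :=
      { toFun := fun n => ⟨s • (n : K), h.stab s n n.2⟩
        invFun := fun n => ⟨s⁻¹ • (n : K), h.stab s⁻¹ n n.2⟩
        left_inv := fun n => Subtype.ext (inv_smul_smul s (n : K))
        right_inv := fun n => Subtype.ext (smul_inv_smul s (n : K)) }
    refine (Fintype.sum_equiv e _ _ fun n => ?_).symm
    have h1 : ((e n : Q) : K) * s • g = s • ((n : K) * g) := (smul_mul' s (n : K) g).symm
    rw [h1, hfS]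
  set a : K ⧸ Q → ℂ := fun ω => F ω.out with ha
  have hak : ∀ k : K, a (k : K ⧸ Q) = F k := by
    intro k
    obtain ⟨m, hm⟩ := QuotientGroup.mk_out_eq_mul Q k
    rw [ha]
    show F ((k : K ⧸ Q)).out = F k
    rw [hm, hFr]
  have haS : ∀ (s : S) (ω : K ⧸ Q), a (s • ω) = a ω := by
    intro s ω
    induction ω using QuotientGroup.induction_on with
    | H k =>
      have h1 : s • (k : K ⧸ Q) = ((s • k : K) : K ⧸ Q) := rfl
      rw [h1, hak, hak, hFS]
  have hal : ∀ ω, MemLocalRing M (a ω) := by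
    intro ω
    obtain ⟨m, ρ, hρ⟩ := hFc
    show MemLocalRing M (F ω.out)
    rw [← hρ]
    exact memLocalRing_of_isIntegral
      (Cfsg.Agent.Characters.AverageRoots.isIntegral_character ρ _)
  have h1 := sum_fixed hM (P := S) hset.pgroup a haS hal
  rw [hset.filter_eq, Finset.sum_image (fun x _ y _ hxy => hset.inj hxy)] at h1
  -- the two sums
  have hQ0 : (Nat.card Q : ℂ) ≠ 0 := card_ne_zero_complex
  have hK : (Nat.card Q : ℂ) * ∑ ω, a ω = ∑ k : K, f k := by
    have h2 := Cfsg.Agent.Classification.BGIsometry.sum_comp (QuotientGroup.mk' Q)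
      (QuotientGroup.mk'_surjective Q) a
    rw [QuotientGroup.ker_mk'] at h2
    rw [← h2]
    have h3 := sum_mul_invariant Q f (fun _ => 1) (fun _ _ => rfl)
    simp only [mul_one] at h3
    rw [h3]
    exact Finset.sum_congr rfl fun k _ => hak k
  have hcardQ : Nat.card (Q.comap ι) = Nat.card Q := Nat.card_congr h.eQ.toEquiv
  have hD : (Nat.card Q : ℂ) * ∑ x : D ⧸ (Q.comap ι), a (iq Q ι x) = ∑ d : D, f (ι d) := by
    have h2 := Cfsg.Agent.Classification.BGIsometry.sum_comp (QuotientGroup.mk' (Q.comap ι))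
      (QuotientGroup.mk'_surjective (Q.comap ι)) (fun x => a (iq Q ι x))
    rw [QuotientGroup.ker_mk', hcardQ] at h2
    rw [← h2]
    have h3 := sum_mul_invariant (Q.comap ι) (fun d => f (ι d)) (fun _ => 1) (fun _ _ => rfl)
    simp only [mul_one] at h3
    rw [h3]
    refine Finset.sum_congr rfl fun d _ => ?_
    have h4 : a (iq Q ι ((QuotientGroup.mk' (Q.comap ι)) d)) = F (ι d) := hak (ι d)
    rw [h4, hcardQ]
    simp only [hF]
    congr 1
    refine (Fintype.sum_equiv h.eQ.toEquiv _ _ fun m => ?_).symm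
    rw [map_mul]
    rfl
  have hKn : (Nat.card (K ⧸ Q) : ℂ) * n = ∑ ω, a ω := by
    apply mul_left_cancel₀ hQ0
    rw [hK, ← hn]
    have h5 : (Nat.card K : ℂ) = Nat.card (K ⧸ Q) * Nat.card Q := by
      exact_mod_cast Subgroup.card_eq_card_quotient_mul_card_subgroup Q
    have h6 : (Nat.card (K ⧸ Q) : ℂ) ≠ 0 := card_ne_zero_complex
    rw [h5]
    field_simp
  have hDn : (Nat.card (D ⧸ (Q.comap ι)) : ℂ) * n' = ∑ x : D ⧸ (Q.comap ι), a (iq Q ι x) := by
    apply mul_left_cancel₀ hQ0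
    rw [hD, ← hn']
    have h5 : (Nat.card D : ℂ) = Nat.card (D ⧸ (Q.comap ι)) * Nat.card Q := by
      rw [← hcardQ]
      exact_mod_cast Subgroup.card_eq_card_quotient_mul_card_subgroup (Q.comap ι)
    have h6 : (Nat.card (D ⧸ (Q.comap ι)) : ℂ) ≠ 0 := card_ne_zero_complex
    rw [h5]
    field_simp
  rw [hKn, hDn]
  exact h1

/-- The indices agree modulo `p`. -/
theorem card_quot_eq [Fintype K] [Fintype D] [Fact p.Prime] [Q.Normal]
    (h : Config S Q ι p) : (Nat.card (K ⧸ Q) : ZMod p) = Nat.card (D ⧸ (Q.comap ι)) := by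
  have := Fintype.ofFinite (K ⧸ Q)
  have := Fintype.ofFinite (D ⧸ (Q.comap ι))
  let _ := quotAct (S := S) Q h.stab
  have hset : Setup S (iq Q ι) p := setup p h.pS Q h.stab h.idx ι h.mem
  have h5 := hset.pgroup.card_modEq_card_fixedPoints (K ⧸ Q)
  have h6 : Nat.card (MulAction.fixedPoints S (K ⧸ Q)) = Nat.card (D ⧸ (Q.comap ι)) := by
    refine (Nat.card_congr (Equiv.ofBijective (fun c : D ⧸ (Q.comap ι) =>
      (⟨iq Q ι c, fun s => hset.smul s c⟩ : MulAction.fixedPoints S (K ⧸ Q))) ⟨?_, ?_⟩)).symm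
    · intro c c' hcc
      exact hset.inj (congrArg Subtype.val hcc)
    · rintro ⟨g, hg⟩
      obtain ⟨c, hc⟩ := (hset.fixed g).1 hg
      exact ⟨c, Subtype.ext hc⟩
  rw [h6] at h5
  exact (ZMod.natCast_eq_natCast_iff _ _ _).2 h5

/-- **Orthogonality modulo `p`.** -/
theorem inner_congr [Fintype K] [Fintype D] [Fact p.Prime] [Q.Normal]
    (h : Config S Q ι p) {χ χ' : K → ℂ} (hχ : IsCharacter K χ) (hχ' : IsCharacter K χ')
    (hs : ∀ (s : S) (g : K), χ (s • g) = χ g) (hs' : ∀ (s : S) (g : K), χ' (s • g) = χ' g)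
    {n n' : ℕ} (hn : classInner χ χ' = n) (hn' : classInner (χ ∘ ι) (χ' ∘ ι) = n') :
    (n : ZMod p) = n' := by
  obtain ⟨M, hM⟩ := Cfsg.Agent.Blocks.ExistsModular.exists_isPModular (Fact.out : p.Prime)
  have h1 := sum_congr_mod hM h (f := fun k => χ k * conj (χ' k))
    (isCharacter_mul hχ (isCharacter_conj hχ'))
    (fun s g => by rw [hs, hs']) (n := n) (n' := n') hn hn'
  have h2 : MemLocalIdeal M ((((Nat.card (K ⧸ Q) * n : ℕ) : ℤ) -
      ((Nat.card (D ⧸ (Q.comap ι)) * n' : ℕ) : ℤ) : ℤ) : ℂ) := by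
    push_cast
    exact h1
  have hMp := isPrime_of_isPModular hM
  rw [memLocalIdeal_intCast_iff hM] at h2
  have h3 := (ZMod.intCast_zmod_eq_zero_iff_dvd _ p).2 h2
  push_cast at h3
  rw [card_quot_eq h, ← mul_sub] at h3
  rcases mul_eq_zero.1 h3 with h4 | h4
  · exfalso
    exact h.idxD ((ZMod.natCast_eq_zero_iff _ _).1 h4)
  · exact sub_eq_zero.1 h4

end Cfsg.Agent.H706.Ortho
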