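import Cfsg.Agent.H706.RealBasic
import Cfsg.Agent.H594.GlauUp
import Cfsg.Agent.S0205

/-!
# Odd index lifting of real-valued characters in the principal block (helper706)

* `step`: `K` normal of odd index, `G/K` commutative: `RealB0 M K → RealB0 M G`.
* `lift`: the same for any normal subgroup of odd index (uses the odd order theorem).
-/

set_option autoImplicit false

open Cfsg
open scoped ComplexConjugate

namespace Cfsg.Agent.H706.RealB

open Cfsg.Agent.H684.BlockTools Cfsg.Agent.S4490 Cfsg.Agent.H594.Glau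
open Cfsg.Agent.Characters.Core

universe u

section
variable {G : Type*} [Group G] {p : ℕ} {M : Ideal AlgInt}

theorem isIntegral_hom_apply [Finite G] (l : G →* ℂˣ) (g : G) : IsIntegral ℤ (l g : ℂ) := by
  refine ⟨Polynomial.X ^ Nat.card G - 1, Polynomial.monic_X_pow_sub_C 1 Nat.card_pos.ne', ?_⟩
  have h1 : l g ^ Nat.card G = 1 := by rw [← map_pow, pow_card_eq_one', map_one]
  have h2 : (l g : ℂ) ^ Nat.card G = 1 := by
    rw [← Units.val_pow_eq_pow_val, h1, Units.val_one]
  simp [h2]

theorem centralChar_tw [Finite G] (l : G →* ℂˣ) (χ : IrrCharacter G) (g : G) :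
    centralChar (twPerm G l χ : G → ℂ) g = (l g : ℂ) * centralChar (χ : G → ℂ) g := by
  rw [Blocks.Basic.centralChar_def, Blocks.Basic.centralChar_def, twPerm_apply, twPerm_apply,
    map_one, Units.val_one, one_mul]
  ring

/-- Twisting by a linear character one of whose twists stays in the principal block. -/
theorem tw_mem [Finite G] (hM : IsPModular p M) {l : G →* ℂˣ} {χ₀ χ : IrrCharacter G}
    (h0 : χ₀ ∈ principalBlock M G) (h1 : twPerm G l χ₀ ∈ principalBlock M G)
    (h : χ ∈ principalBlock M G) : twPerm G l χ ∈ principalBlock M G := by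
  have := Blocks.Local.isPrime_of_isPModular hM
  intro g
  have e0 := h0 g
  have e1 := h1 g
  have e2 := h g
  have hl : MemLocalRing M (l g : ℂ) :=
    Blocks.Local.memLocalRing_of_isIntegral (isIntegral_hom_apply l g)
  rw [centralChar_tw] at e1 ⊢
  have e3 := Blocks.Local.memLocalIdeal_mul_left hl
    (Blocks.Local.memLocalIdeal_sub e2 e0)
  have e4 := Blocks.Local.memLocalIdeal_add e1 e3
  convert e4 using 1
  ring

theorem tw_pow_mem [Finite G] (hM : IsPModular p M) {l : G →* ℂˣ} {χ₀ : IrrCharacter G}
    (h0 : χ₀ ∈ principalBlock M G) (h1 : twPerm G l χ₀ ∈ principalBlock M G) (k : ℕ) :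
    (twPerm G l ^ k) χ₀ ∈ principalBlock M G := by
  induction k with
  | zero => rw [pow_zero]; exact h0
  | succ k ih =>
    rw [pow_succ']
    exact tw_mem hM h0 h1 ih

theorem tw_pow_apply [Finite G] (l : G →* ℂˣ) (χ : IrrCharacter G) (k : ℕ) (g : G) :
    ((twPerm G l ^ k) χ : G → ℂ) g = ((l g ^ k : ℂˣ) : ℂ) * (χ : G → ℂ) g := by
  induction k with
  | zero => simp
  | succ k ih =>
    rw [pow_succ' (twPerm G l), Equiv.Perm.mul_apply, twPerm_apply, ih, pow_succ', Units.val_mul,
      mul_assoc]

/-- Odd index lifting, commutative quotient. -/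
theorem step [Finite G] [Fact p.Prime] (hM : IsPModular p M) (K : Subgroup G) [K.Normal]
    (hab : ∀ x y : G, x * y * x⁻¹ * y⁻¹ ∈ K) (hodd : Odd K.index) (h : RealB0 M K) :
    RealB0 M G := by
  classical
  let _ : Fintype G := Fintype.ofFinite G
  let _ : Fintype K := Fintype.ofFinite K
  obtain ⟨ψ, hψ, hψ1, hψr⟩ := h
  obtain ⟨χ₀, h0, h1⟩ := H684.CoverCount.exists_over hM K ψ hψ
  have hψc : ∀ n : K, conj ((ψ : K → ℂ) n) = (ψ : K → ℂ) n :=
    fun n => Complex.conj_eq_iff_im.2 (hψr n)
  have h2 : classInner (fun n : K => (cj χ₀ : G → ℂ) n) (ψ : K → ℂ) ≠ 0 := by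
    intro h3
    apply h1
    have h4 := congrArg conj h3
    rw [map_zero] at h4
    rw [← h4, Blocks.Basic.classInner_def, Blocks.Basic.classInner_def, map_mul, map_sum,
      map_inv₀, Complex.conj_natCast]
    congr 1
    refine Finset.sum_congr rfl fun n _ => ?_
    rw [map_mul, cj_apply, Complex.conj_conj, Complex.conj_conj, hψc]
  obtain ⟨l, hl, hl2⟩ := exists_linear_mul K hab χ₀.2 (cj χ₀).2 ψ.2 h1 h2
  have h3 : twPerm G l χ₀ = cj χ₀ := Subtype.ext hl2.symm
  have h4 : twPerm G l χ₀ ∈ principalBlock M G := h3 ▸ cj_mem h0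
  obtain ⟨j, hj⟩ := hodd
  have hlm : ∀ g : G, l g ^ (j + 1) * l g ^ (j + 1) = l g := by
    intro g
    have e1 : l g ^ K.index = 1 := by
      rw [← map_pow]
      exact hl _ (Subgroup.pow_index_mem K g)
    rw [← pow_add, show j + 1 + (j + 1) = K.index + 1 by omega, pow_succ, e1, one_mul]
  refine ⟨(twPerm G l ^ (j + 1)) χ₀, tw_pow_mem hM h0 h4 (j + 1), fun h5 => hψ1 ?_, fun g => ?_⟩
  · have h6 : (fun n : K => (χ₀ : G → ℂ) n) = fun _ : K => (1 : ℂ) := by
      funext n
      have h7 := congrFun h5 (n : G)
      rw [tw_pow_apply, hl n n.2, one_pow, Units.val_one, one_mul] at h7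
      exact h7
    rw [h6] at h1
    by_contra hne
    exact h1 (classInner_irr_ne Blocks.Basic.isIrrCharacter_one ψ.2 (fun h => hne h.symm))
  · refine Complex.conj_eq_iff_im.1 ?_
    rw [tw_pow_apply, map_mul, ← cj_apply, ← h3, twPerm_apply, ← mul_assoc]
    congr 1
    nth_rewrite 2 [← hlm g]
    rw [Units.val_mul, ← mul_assoc, mul_comm (conj _), Complex.mul_conj,
      Complex.normSq_eq_norm_sq, Units.val_pow_eq_pow_val, norm_pow,
      Characters.Linear.norm_hom_apply, one_pow]
    simp

end

/-- Odd index lifting. -/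
theorem lift {p : ℕ} [Fact p.Prime] {M : Ideal AlgInt} (hM : IsPModular p M) (n : ℕ) :
    ∀ (G : Type u) [Group G] [Finite G] (N : Subgroup G) [N.Normal], N.index ≤ n →
      Odd N.index → RealB0 M N → RealB0 M G := by
  induction n with
  | zero =>
    intro G _ _ N _ h0 _ _
    exact absurd (Nat.le_zero.1 h0) Subgroup.index_ne_zero_of_finite
  | succ n ih =>
    intro G _ _ N _ hn hodd h
    by_cases htop : N = ⊤
    · subst htop
      exact h.iso hM Subgroup.topEquiv.symm
    have hnt : Nontrivial (G ⧸ N) := by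
      rw [QuotientGroup.nontrivial_iff]
      exact htop
    have hsol : Group.IsSolvable (G ⧸ N) := S0205.result (by rwa [← Subgroup.index_eq_card])
    have hlt := Group.IsSolvable.commutator_lt_top_of_nontrivial (G := G ⧸ N)
    let D : Subgroup G := (commutator (G ⧸ N)).comap (QuotientGroup.mk' N)
    have hND : N ≤ D := by
      intro x hx
      show (QuotientGroup.mk' N) x ∈ commutator (G ⧸ N)
      have : (QuotientGroup.mk' N) x = 1 := (QuotientGroup.eq_one_iff x).2 hx
      rw [this]
      exact one_mem _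
    have hDn : D.Normal := inferInstance
    have hD1 : 1 < D.index := by
      rw [Subgroup.index_comap_of_surjective _ (QuotientGroup.mk'_surjective N)]
      exact Subgroup.one_lt_index_of_ne_top hlt.ne
    have hmul := Subgroup.relIndex_mul_index hND
    have hDodd : Odd D.index := by
      rw [← hmul] at hodd
      exact (Nat.odd_mul.1 hodd).2
    have hrel : Odd (N.relIndex D) := by
      rw [← hmul] at hodd
      exact (Nat.odd_mul.1 hodd).1
    have hle : N.relIndex D ≤ n := by
      have h1 : N.relIndex D ≠ 0 := by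
        intro h0
        rw [h0] at hrel
        simp at hrel
      nlinarith [Nat.pos_of_ne_zero h1]
    have hD : RealB0 M D := by
      refine ih D (N.subgroupOf D) hle hrel ?_
      exact h.iso hM (Subgroup.subgroupOfEquivOfLe hND)
    refine step hM D (fun x y => ?_) hDodd hD
    show (QuotientGroup.mk' N) (x * y * x⁻¹ * y⁻¹) ∈ commutator (G ⧸ N)
    rw [map_mul, map_mul, map_mul, map_inv, map_inv]
    exact Subgroup.commutator_mem_commutator (Subgroup.mem_top _) (Subgroup.mem_top _)

/-- Odd index lifting: if the principal block of a normal subgroup of odd index contains a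
nonprincipal real-valued character, so does the principal block of the group. -/
theorem RealB0.of_odd_index {p : ℕ} [Fact p.Prime] {M : Ideal AlgInt} (hM : IsPModular p M)
    {G : Type u} [Group G] [Finite G] (N : Subgroup G) [N.Normal] (hodd : Odd N.index)
    (h : RealB0 M N) : RealB0 M G := lift hM N.index G N le_rfl hodd h

end Cfsg.Agent.H706.RealB
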